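import Groth.Agent.Lib.PreWZeroH7.Descent
import Mathlib.AlgebraicGeometry.Pullbacks
import Mathlib.RingTheory.FinitePresentation

/-!
# The locus of factorisation through a closed immersion along a free affine morphism
-/

universe u

set_option autoImplicit false
set_option backward.isDefEq.respectTransparency false
set_option linter.unusedSectionVars false

open CategoryTheory Limits AlgebraicGeometry TensorProduct

noncomputable section

namespace Groth.Agent.PreWZeroH7

/-- A closed immersion split by a flat cover is an isomorphism. -/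
theorem exists_section_of_cover {C V : Scheme.{u}} (c : C ⟶ V) [IsClosedImmersion c] {ι : Type u}
    (W : ι → Scheme.{u}) (w : ∀ i, W i ⟶ V) (hw : ∀ x : V, ∃ i, x ∈ Set.range (w i))
    (hf : ∀ i, Flat (w i)) (t : ∀ i, W i ⟶ C) (ht : ∀ i, t i ≫ c = w i) :
    ∃ s : V ⟶ C, s ≫ c = 𝟙 V := by
  refine ⟨IsClosedImmersion.lift c (𝟙 V) ?_, IsClosedImmersion.lift_fac _ _ _⟩
  rw [Scheme.IdealSheafData.le_def]
  intro U a ha
  suffices a = 0 by rw [this]; exact zero_mem _
  refine eq_zero_of_cover_app W w hw hf U.1 a fun i => ?_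
  have h1 : c.ker ≤ (w i).ker := ht i ▸ Scheme.Hom.le_ker_comp (t i) c
  exact RingHom.mem_ker.mp ((w i).ideal_ker_le U (h1 U ha))

theorem adj_spec {D A : CommRingCat.{u}} (φ : A ⟶ Γ(Spec D, ⊤)) :
    adj φ = Spec.map (φ ≫ (Scheme.ΓSpecIso D).hom) := by
  refine ext_of_isAffine ?_
  rw [adj_appTop, ← cancel_mono (Scheme.ΓSpecIso D).hom, Scheme.ΓSpecIso_naturality, Category.assoc]

variable {S X F G H : Scheme.{u}} (x : X ⟶ S) (f : F ⟶ S) (m : pullback f x ⟶ G) (i : H ⟶ G)

/-- The map induced on a base change. -/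
abbrev bcm {V : Scheme.{u}} (h : V ⟶ X) : pullback f (h ≫ x) ⟶ pullback f x :=
  pullback.lift (pullback.fst _ _) (pullback.snd _ _ ≫ h) (by rw [Category.assoc, pullback.condition])

/-- The condition that the family factors through the closed subscheme. -/
def Factors {V : Scheme.{u}} (h : V ⟶ X) : Prop :=
  ∃ ψ : pullback f (h ≫ x) ⟶ H, ψ ≫ i = bcm x f h ≫ m

variable {x f m i}

theorem Factors.comp {V V' : Scheme.{u}} (a : V' ⟶ V) (h : V ⟶ X) (hh : Factors x f m i h) :
    Factors x f m i (a ≫ h) := by
  obtain ⟨ψ, hψ⟩ := hh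
  refine ⟨pullback.lift (pullback.fst _ _) (pullback.snd _ _ ≫ a)
    (by rw [pullback.condition]; simp) ≫ ψ, ?_⟩
  refine (Category.assoc _ _ _).trans ((congrArg (fun z => _ ≫ z) hψ).trans ((Category.assoc _ _ _).symm.trans ?_))
  congr 1
  apply pullback.hom_ext <;> simp [bcm]

theorem Factors.desc [IsClosedImmersion i] {V : Scheme.{u}} (h : V ⟶ X) {ι : Type u} (W : ι → Scheme.{u})
    (w : ∀ j, W j ⟶ V) (hw : ∀ v : V, ∃ j, v ∈ Set.range (w j)) (hf : ∀ j, Flat (w j))
    (hall : ∀ j, Factors x f m i (w j ≫ h)) : Factors x f m i h := by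
  choose ψ hψ using hall
  let P := pullback f (h ≫ x)
  let c := pullback.snd i (bcm x f h ≫ m)
  let p : ∀ j, pullback f ((w j ≫ h) ≫ x) ⟶ P := fun j =>
    pullback.lift (pullback.fst _ _) (pullback.snd _ _ ≫ w j)
      (by rw [pullback.condition]; simp)
  have hp : ∀ j, IsPullback (p j) (pullback.snd _ _) (pullback.snd f (h ≫ x)) (w j) := fun j => by
    refine IsPullback.of_right ?_ (pullback.lift_snd _ _ _) (IsPullback.of_hasPullback f (h ≫ x))
    simp only [p, pullback.lift_fst, ← Category.assoc]
    exact IsPullback.of_hasPullback f ((w j ≫ h) ≫ x)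
  obtain ⟨s, hs⟩ := exists_section_of_cover c (fun j => pullback f ((w j ≫ h) ≫ x)) p (fun v => by
      obtain ⟨j, y, hy⟩ := hw (pullback.snd f (h ≫ x) v)
      obtain ⟨z, hz, -⟩ := Scheme.exists_preimage_of_isPullback (hp j) v y hy.symm
      exact ⟨j, z, hz⟩)
    (fun j => MorphismProperty.of_isPullback (hp j).flip (hf j))
    (fun j => pullback.lift (ψ j) (p j) (by
      rw [hψ j, ← Category.assoc]
      congr 1
      apply pullback.hom_ext <;> simp [bcm, p]))
    (fun j => pullback.lift_snd _ _ _)
  refine ⟨s ≫ pullback.fst i (bcm x f h ≫ m), ?_⟩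
  rw [Category.assoc, pullback.condition, ← Category.assoc, hs, Category.id_comp]

theorem exists_ideal_coords {A E : Type u} [CommRing A] [CommRing E] [Algebra A E] [Module.Projective A E]
    (I : Ideal E) (hI : I.FG) : ∃ J : Ideal A, J.FG ∧ ∀ (D : Type u) [CommRing D] [Algebra A D],
      (I ≤ RingHom.ker (Algebra.TensorProduct.includeLeftRingHom : E →+* E ⊗[A] D) ↔
        J ≤ RingHom.ker (algebraMap A D)) := by
  classical
  obtain ⟨s, rfl⟩ := hI
  obtain ⟨σ, hσ⟩ := Module.projective_def'.mp (inferInstance : Module.Projective A E)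
  let t : Finset A := s.biUnion fun e => (σ e).support.image (σ e)
  refine ⟨Ideal.span t, ⟨t, rfl⟩, fun D _ _ => ?_⟩
  rw [Ideal.span_le, Ideal.span_le]
  let b : Module.Basis E A (E →₀ A) := Finsupp.basisSingleOne
  have key : ∀ (e : E) (j), TensorProduct.equivFinsuppOfBasisLeft b (σ.rTensor D (e ⊗ₜ[A] (1 : D))) j =
      algebraMap A D (σ e j) := fun e j => by
    simp [b, Algebra.algebraMap_eq_smul_one]
  constructor
  · intro h a ha
    obtain ⟨e, he, ha⟩ := Finset.mem_biUnion.mp ha
    obtain ⟨j, -, rfl⟩ := Finset.mem_image.mp ha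
    show algebraMap A D (σ e j) = 0
    rw [← key, show e ⊗ₜ[A] (1 : D) = 0 from h he]
    simp
  · intro h e he
    show e ⊗ₜ[A] (1 : D) = 0
    have hz : σ.rTensor D (e ⊗ₜ[A] (1 : D)) = 0 := by
      refine (TensorProduct.equivFinsuppOfBasisLeft b).injective ?_
      ext j
      rw [key, map_zero, Finsupp.coe_zero, Pi.zero_apply]
      by_cases hj : σ e j = 0
      · rw [hj, map_zero]
      · exact h (Finset.mem_biUnion.mpr ⟨e, he, Finset.mem_image.mpr ⟨j, Finsupp.mem_support_iff.mpr hj, rfl⟩⟩)
    have := congrArg ((Finsupp.linearCombination A id : (E →₀ A) →ₗ[A] E).rTensor D) hz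
    rwa [← LinearMap.rTensor_comp_apply, hσ, LinearMap.rTensor_id, LinearMap.id_apply, map_zero] at this

theorem factors_iff_forall {V : Scheme.{u}} {h : V ⟶ X} :
    Factors x f m i h ↔ ∀ (W : Scheme.{u}) (p : W ⟶ F) (w : W ⟶ V) (hw : p ≫ f = (w ≫ h) ≫ x),
      ∃ z : W ⟶ H, z ≫ i = pullback.lift p (w ≫ h) hw ≫ m := by
  constructor
  · rintro ⟨ψ, hψ⟩ W p w hw
    refine ⟨pullback.lift p w (hw.trans (Category.assoc _ _ _)) ≫ ψ, ?_⟩
    refine (Category.assoc _ _ _).trans ((congrArg (fun z => _ ≫ z) hψ).trans ((Category.assoc _ _ _).symm.trans ?_))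
    congr 1
    apply pullback.hom_ext <;> simp [bcm]
  · intro H
    exact H _ (pullback.fst f (h ≫ x)) (pullback.snd f (h ≫ x))
      (pullback.condition.trans (Category.assoc _ _ _).symm)

theorem spec_lift_iff {E E' : CommRingCat.{u}} (I : Ideal E) (g : E ⟶ E') :
    (∃ t : Spec E' ⟶ Spec (CommRingCat.of (E ⧸ I)),
      t ≫ Spec.map (CommRingCat.ofHom (Ideal.Quotient.mk I)) = Spec.map g) ↔ I ≤ RingHom.ker g.hom := by
  constructor
  · rintro ⟨t, ht⟩ e he
    rw [← Spec.map_preimage t, ← Spec.map_comp] at ht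
    rw [RingHom.mem_ker, ← Spec.map_injective ht]
    show (Spec.preimage t).hom (Ideal.Quotient.mk I e) = 0
    rw [Ideal.Quotient.eq_zero_iff_mem.mpr he, map_zero]
  · intro h
    refine ⟨Spec.map (CommRingCat.ofHom (Ideal.Quotient.lift I g.hom h)), ?_⟩
    rw [← Spec.map_comp]
    rfl

/-- The locus of factorisation is a closed subscheme of finite presentation. -/
theorem exists_factor_closed [IsClosedImmersion i] [LocallyOfFinitePresentation i]
    (hfree : ∀ (A : CommRingCat.{u}) (v : Spec A ⟶ X), ∃ (E : CommRingCat.{u}) (e : A ⟶ E) (q : Spec E ⟶ F),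
      (@Module.Projective A _ E _ e.hom.toAlgebra.toModule) ∧ IsPullback q (Spec.map e) f (v ≫ x)) :
    ∃ (Z : Scheme.{u}) (j : Z ⟶ X), IsClosedImmersion j ∧ LocallyOfFinitePresentation j ∧
      ∀ (V : Scheme.{u}) (h : V ⟶ X), Factors x f m i h ↔ ∃ a : V ⟶ Z, a ≫ j = h := by
  let D : LocusData X :=
    { Z := fun {V} h => Factors x f m i h
      comp := fun a h hh => hh.comp a h
      desc := fun h ι W w hw hf _ hall => Factors.desc h W w hw hf hall
      loc := fun A v => by
        obtain ⟨E, e, q, hE, sq⟩ := hfree A v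
        refine ⟨PUnit, inferInstance, fun _ => A, fun _ => 𝟙 A, fun _ => by rw [Spec.map_id]; infer_instance,
          fun _ => by rw [Spec.map_id]; infer_instance, fun p => ⟨⟨⟩, p, by simp⟩, fun _ => ?_⟩
        letI := e.hom.toAlgebra
        haveI : Module.Projective A E := hE
        let em : Spec E ⟶ pullback f x := pullback.lift q (Spec.map e ≫ v) (by rw [Category.assoc, sq.w])
        let c := pullback.snd i (em ≫ m)
        obtain ⟨I, eI, hc⟩ := IsClosedImmersion.Spec_iff.mp (inferInstance : IsClosedImmersion c)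
        have hI : I.FG := by
          have h1 : LocallyOfFinitePresentation (Spec.map (CommRingCat.ofHom (Ideal.Quotient.mk I))) := by
            rw [show Spec.map (CommRingCat.ofHom (Ideal.Quotient.mk I)) = eI.inv ≫ c by rw [hc, Iso.inv_hom_id_assoc]]
            infer_instance
          rw [HasRingHomProperty.Spec_iff (P := @LocallyOfFinitePresentation)] at h1
          have h2 : Algebra.FinitePresentation E (E ⧸ I) := by
            convert! h1 using 1
          have := Algebra.FinitePresentation.ker_fG_of_surjective (Ideal.Quotient.mkₐ E I) Ideal.Quotient.mk_surjective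
          rwa [← Ideal.Quotient.mkₐ_ker E I]
        obtain ⟨J, hJ, hcoord⟩ := exists_ideal_coords (A := A) I hI
        have aff : ∀ (D : CommRingCat.{u}) (φ : A ⟶ D), Factors x f m i (Spec.map φ ≫ v) ↔ J ≤ RingHom.ker φ.hom := by
          intro D φ
          letI := φ.hom.toAlgebra
          refine Iff.trans ?_ (hcoord D)
          let E' := CommRingCat.of ((E : Type u) ⊗[A] (D : Type u))
          let l : E ⟶ E' := CommRingCat.ofHom Algebra.TensorProduct.includeLeftRingHom
          let r : D ⟶ E' := CommRingCat.ofHom Algebra.TensorProduct.includeRight.toRingHom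
          have sq₂ : IsPullback (Spec.map l) (Spec.map r) (Spec.map e) (Spec.map φ) :=
            IsPullback.of_iso_pullback ⟨by
              rw [← Spec.map_comp, ← Spec.map_comp]
              congr 1
              ext a
              show algebraMap A (E : Type u) a ⊗ₜ[A] (1 : (D : Type u)) = (1 : (E : Type u)) ⊗ₜ[A] algebraMap A (D : Type u) a
              rw [Algebra.algebraMap_eq_smul_one, Algebra.algebraMap_eq_smul_one, TensorProduct.smul_tmul]⟩
              (pullbackSpecIso A E D).symm (pullbackSpecIso_inv_fst A E D) (pullbackSpecIso_inv_snd A E D)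
          have sq₃ : IsPullback (Spec.map l ≫ q) (Spec.map r) f ((Spec.map φ ≫ v) ≫ x) := by
            rw [Category.assoc]
            exact sq₂.paste_horiz sq
          let ε := sq₃.isoPullback
          have hε : ε.hom ≫ bcm x f (Spec.map φ ≫ v) ≫ m = Spec.map l ≫ em ≫ m := by
            rw [← Category.assoc, ← Category.assoc (Spec.map l)]
            congr 1
            apply pullback.hom_ext
            · simp [bcm, em, ε]
            · simp [bcm, em, ε, reassoc_of% sq₂.w]
          show _ ↔ I ≤ RingHom.ker l.hom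
          rw [← spec_lift_iff I l]
          constructor
          · rintro ⟨ψ, hψ⟩
            refine ⟨pullback.lift (ε.hom ≫ ψ) (Spec.map l) (by rw [Category.assoc, hψ, hε]) ≫ eI.hom, ?_⟩
            rw [Category.assoc, ← hc, pullback.lift_snd]
          · rintro ⟨t, ht⟩
            refine ⟨ε.inv ≫ t ≫ eI.inv ≫ pullback.fst i (em ≫ m), ?_⟩
            refine (Category.assoc _ _ _).trans ?_
            refine (congrArg (fun z => ε.inv ≫ z) ((Category.assoc _ _ _).trans (congrArg (fun z => t ≫ z) (Category.assoc _ _ _)))).trans ?_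
            refine (Iso.inv_comp_eq ε).mpr ?_
            rw [pullback.condition, hε]
            show t ≫ eI.inv ≫ c ≫ em ≫ m = _
            rw [hc, Category.assoc, Iso.inv_hom_id_assoc, reassoc_of% ht]
        refine ⟨J, hJ, fun V φ => ?_⟩
        rw [Spec.map_id, Category.id_comp]
        let W := fun U : V.affineOpens => Spec Γ(V, U)
        let w : ∀ U, W U ⟶ V := fun U => U.2.fromSpec
        have hw : ∀ z : V, ∃ U, z ∈ Set.range (w U) := fun z => by
          obtain ⟨U, hU, hz, -⟩ := exists_isAffineOpen_mem_and_subset (X := V) (x := z) (U := ⊤) trivial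
          exact ⟨⟨U, hU⟩, hU.range_fromSpec.symm ▸ hz⟩
        have hpt : ∀ U, Factors x f m i (w U ≫ adj φ ≫ v) ↔
            J ≤ RingHom.ker (φ ≫ (w U).appTop).hom := fun U => by
          rw [← Category.assoc, adj_naturality, adj_spec, aff, CommRingCat.hom_comp]
          exact Eq.to_iff (congrArg (fun K => J ≤ K) (RingHom.ker_comp_of_injective _
            (ConcreteCategory.bijective_of_isIso (Scheme.ΓSpecIso Γ(V, U)).hom).1))
        refine ⟨fun hZ a ha => ?_, fun hle => ?_⟩
        · exact RingHom.mem_ker.mpr (eq_zero_of_cover W w hw (fun U => inferInstance) _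
            fun U => (hpt U).mp (hZ.comp _ _) ha)
        · refine Factors.desc _ W w hw (fun U => inferInstance) fun U => (hpt U).mpr fun a ha => ?_
          show (w U).appTop.hom (φ.hom a) = 0
          rw [show φ.hom a = 0 from hle ha, map_zero] }
  exact D.exists_closed

end Groth.Agent.PreWZeroH7
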